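import Groth.Agent.S2894
import Mathlib.AlgebraicGeometry.Morphisms.FinitePresentation

/-!
Blow-ups along regular immersions are locally of finite presentation.
-/

set_option autoImplicit false
set_option linter.style.haveILetI false
set_option backward.isDefEq.respectTransparency false
universe u

open CategoryTheory CategoryTheory.Limits AlgebraicGeometry TopologicalSpace MvPolynomial
open Groth.Agent.BlowUpExist Groth.Agent.BlowUpExist.ChartIdx

namespace Groth.Agent.SmBlow4

/-- The chart of a blow-up in an H1-regular sequence is of finite presentation. -/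
theorem finitePresentation_chart {A : Type u} [CommRing A] {c : ℕ} (a : Fin c → A) (ha : CAlgX.IsH1Regular a)
    (l : Fin c) (I : Ideal A) (hI : I = Ideal.span (Set.range a)) :
    Algebra.FinitePresentation A (BlowUp.affineAlgebra A I (a l)) := by
  classical
  let f : MvPolynomial (Fin c) A →ₐ[A] Localization.Away (a l) := aeval (ExcDiv6.frac a l)
  have hrange : f.range = BlowUp.affineAlgebra A I (a l) := by
    refine le_antisymm ?_ (Algebra.adjoin_le ?_)
    · rw [← Algebra.adjoin_range_eq_range_aeval]
      refine Algebra.adjoin_le ?_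
      rintro _ ⟨i, rfl⟩
      exact Algebra.subset_adjoin ⟨a i, hI ▸ Ideal.subset_span ⟨i, rfl⟩, rfl⟩
    · rintro _ ⟨x, hx, rfl⟩
      rw [hI, Ideal.mem_span_range_iff_exists_fun] at hx
      obtain ⟨v, rfl⟩ := hx
      refine ⟨∑ i, C (v i) * X i, ?_⟩
      symm
      rw [IsLocalization.mk'_eq_iff_eq_mul]
      simp only [f, AlgHom.toRingHom_eq_coe, RingHom.coe_coe, map_sum, map_mul, aeval_C, aeval_X, Finset.sum_mul]
      exact Finset.sum_congr rfl fun i _ => by rw [mul_assoc, mul_comm (ExcDiv6.frac a l i), ExcDiv6.frac_spec]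
  have hker : RingHom.ker f = Ideal.span (Set.range fun i => C (a l) * X i - C (a i)) ⊔
      Ideal.span {(X l - 1 : MvPolynomial (Fin c) A)} := by
    refine le_antisymm (ExcDiv6.ker_aeval_frac_le a ha l) (sup_le (Ideal.span_le.2 ?_)
      ((Ideal.span_singleton_le_iff_mem _).2 ?_))
    · rintro _ ⟨i, rfl⟩
      simp [f, ExcDiv6.frac_spec]
    · simp [f, ExcDiv6.frac_self]
  haveI : Algebra.FinitePresentation A f.range :=
    Algebra.FinitePresentation.of_surjective f.rangeRestrict_surjective (by
      rw [show RingHom.ker f.rangeRestrict.toRingHom = RingHom.ker f from RingHom.ker_rangeRestrict f.toRingHom, hker]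
      exact (Submodule.fg_span (Set.finite_range _)).sup (Submodule.fg_span_singleton _))
  exact Algebra.FinitePresentation.equiv (Subalgebra.equivOfEq _ _ hrange)

/-- A blow-up along a regular immersion is locally of finite presentation. -/
theorem lfp_blowUp {X X' Y : Scheme.{u}} (i : Y ⟶ X) (hi : Mor2.IsRegularClosedImmersion i)
    (b : X' ⟶ X) (hb : BlowUp.IsBlowUp b i.ker) : LocallyOfFinitePresentation b := by
  classical
  haveI := hi.1
  rw [HasRingHomProperty.iff_exists_appLE (P := @LocallyOfFinitePresentation)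
    (RingHom.finitePresentation_stableUnderComposition.stableUnderCompositionWithLocalizationAway
      RingHom.finitePresentation_holdsForLocalizationAway).left]
  intro x'
  by_cases hx : b x' ∈ Set.range i
  · obtain ⟨y, hy⟩ := hx
    obtain ⟨U, hU, hyU, rs, hrs, hker⟩ := hi.2 y
    let UA : X.affineOpens := ⟨U, hU⟩
    let a : Fin rs.length → Γ(X, U) := rs.get
    have hH1 : CAlgX.IsH1Regular a := QReg.isH1Regular_of_isWeaklyRegular a (by
      simpa [a, List.ofFn_get] using hrs.toIsWeaklyRegular)
    have hspan : i.ker.ideal UA = Ideal.span (Set.range a) := by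
      rw [show i.ker.ideal UA = Ideal.ofList rs from hker, Ideal.ofList]
      congr 1
      ext x
      simp [a, List.mem_iff_get]
    have hmem : ∀ l, a l ∈ (i.ker ^ (0 + 1)).ideal UA := fun l => by
      rw [zero_add, pow_one, hspan]
      exact Ideal.subset_span ⟨l, rfl⟩
    obtain ⟨l, O, hyO, hO⟩ := S2894.exists_chart_generator (U := UA) hb.1 a hspan hmem (y := x') (hy ▸ hyU)
    let ci : ChartIdx i.ker := ⟨UA, 0, a l, hmem l⟩
    let L : X'.affineOpens := ⟨ci.locus b, isAffineOpen_locus hb ci⟩
    refine ⟨UA, L, le_locus hO hyO, locus_le ci, ?_⟩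
    obtain ⟨φ, hφ, hφa⟩ := S2894.exists_bijective_locus hb ci
    let eU : Γ(X, U) ≃+* Γ(U.toScheme, ⊤) := U.topIso.symm.commRingCatIsoToRingEquiv
    have hJ : ci.J.ideal ⟨⊤, (by haveI : IsAffine ci.U.1.toScheme := hU; exact isAffineOpen_top _)⟩ =
        Ideal.span (Set.range (eU ∘ a)) := by
      rw [J_ideal_top]
      show ((i.ker ^ (0 + 1)).ideal UA).map U.topIso.inv.hom = _
      rw [zero_add, pow_one, hspan, Ideal.map_span, ← Set.range_comp]
      rfl
    have hfp := finitePresentation_chart (A := Γ(U.toScheme, ⊤)) (eU ∘ a) (ExcDiv6.isH1Regular_map eU hH1) l _ hJ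
    have heq : (b.appLE U (ci.locus b) (locus_le ci)).hom =
        (φ.comp (algebraMap Γ(U.toScheme, ⊤) _)).comp U.topIso.inv.hom := RingHom.ext fun x => by
      show _ = φ (algebraMap _ _ (U.topIso.inv x))
      rw [hφa]
      exact congrArg _ (Iso.inv_hom_id_apply U.topIso x).symm
    show (b.appLE U (ci.locus b) (locus_le ci)).hom.FinitePresentation
    rw [heq]
    refine RingHom.FinitePresentation.comp (RingHom.FinitePresentation.comp
      (RingHom.FinitePresentation.of_surjective φ hφ.2 (by
        rw [(RingHom.injective_iff_ker_eq_bot φ).1 hφ.1]; exact Submodule.fg_bot))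
      (RingHom.finitePresentation_algebraMap.2 hfp)) ?_
    exact RingHom.FinitePresentation.of_surjective _ (ConcreteCategory.bijective_of_isIso U.topIso.inv).2 (by
      rw [(RingHom.injective_iff_ker_eq_bot _).1 (ConcreteCategory.bijective_of_isIso U.topIso.inv).1]
      exact Submodule.fg_bot)
  · let V : X.Opens := EffCartier.cmpl i.ker
    have hxV : b x' ∈ V := by
      show b x' ∉ (i.ker.support : Set X)
      rwa [Scheme.Hom.support_ker, i.isClosedEmbedding.isClosed_range.closure_eq]
    haveI : IsIso (b ∣_ V) := EffCartier.isIso_blowUp_restrict hb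
    obtain ⟨_, ⟨W, hW, rfl⟩, hxW, hWV : W ≤ V⟩ :=
      X.isBasis_affineOpens.exists_subset_of_mem_open (show b x' ∈ (V : Set X) from hxV) V.2
    haveI : IsIso (b ∣_ W) := by
      have hW' : MorphismProperty.isomorphisms Scheme (b ∣_ V) := ‹IsIso (b ∣_ V)›
      have := IsZariskiLocalAtTarget.restrict hW' (V.ι ⁻¹ᵁ W)
      exact ((MorphismProperty.isomorphisms Scheme).arrow_mk_iso_iff
        (morphismRestrictRestrict b V (V.ι ⁻¹ᵁ W) ≪≫ morphismRestrictEq b (by
          rw [Scheme.Hom.image_preimage_eq_opensRange_inf, Scheme.Opens.opensRange_ι, inf_eq_right]; exact hWV))).1 this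
    have hW2 : IsAffineOpen (b ⁻¹ᵁ W) := by
      haveI : IsAffine W := hW
      exact IsAffine.of_isIso (b ∣_ W)
    refine ⟨⟨W, hW⟩, ⟨b ⁻¹ᵁ W, hW2⟩, hxW, le_rfl, ?_⟩
    show (b.appLE W (b ⁻¹ᵁ W) le_rfl).hom.FinitePresentation
    have : IsIso (b.app W) := by
      have := (inferInstance : IsIso (b ∣_ W).appTop)
      rw [morphismRestrict_appTop] at this
      have h2 := (isIso_comp_right_iff _ _).1 this
      have h3 : ∀ W' : X.Opens, W' = W → IsIso (b.app W') → IsIso (b.app W) := by rintro _ rfl h; exact h
      exact h3 _ (Scheme.Opens.ι_image_top W) h2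
    rw [← Scheme.Hom.app_eq_appLE]
    have hbij := ConcreteCategory.bijective_of_isIso (b.app W)
    exact RingHom.FinitePresentation.of_surjective _ hbij.2 (by
      rw [(RingHom.injective_iff_ker_eq_bot _).1 hbij.1]; exact Submodule.fg_bot)

end Groth.Agent.SmBlow4
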